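import Mathlib
import Cfsg.Agent.Lib.Helper82.StUniq.Defs
import Cfsg.Agent.Lib.Helper78.CharMore
import Cfsg.Agent.Lib.Helper75.Clifford

/-!
# S2318-[A-PICK] (helper93, for helper82's StUniq project)

`exists_irr_pick`: if `χ` is irreducible and `⟨χ, Ind_P^G Ψ₀⟩ = 1` for a character `Ψ₀` of `P`,
then there is an irreducible `Λ` of `P` with `⟨Λ, Ψ₀⟩ = 1 = ⟨χ, Ind_P^G Λ⟩` and `Ψ₀ - Λ` a character.
-/

set_option autoImplicit false

namespace Cfsg.Agent.Lib.Helper93.StUniq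

open Cfsg
open scoped ComplexConjugate
open Cfsg.Agent.Lib.Helper78

universe u
variable {G : Type u} [Group G]

/-- abstract version on one finite group `P`: two characters `R`, `Ψ₀` with `⟨R, Ψ₀⟩ = 1` have a
unique common irreducible constituent, of multiplicity one in each. -/
theorem exists_irr_pick_aux {P : Type u} [Group P] [Fintype P] (R Ψ₀ : P → ℂ)
    (hR : IsCharacter P R) (hΨ₀ : IsCharacter P Ψ₀) (h1 : classInner R Ψ₀ = 1) :
    ∃ Λ : P → ℂ, IsIrrCharacter P Λ ∧ classInner Λ Ψ₀ = 1 ∧ classInner R Λ = 1 ∧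
      IsCharacter P (Ψ₀ - Λ) := by
  classical
  choose a ha using fun ψ => IsCharacter.exists_nat_classInner hR ψ
  choose m hm using fun ψ => IsCharacter.exists_nat_classInner hΨ₀ ψ
  have hpars : classInner R Ψ₀ = ∑ ψ : IrrCharacter P, ((a ψ * m ψ : ℕ) : ℂ) := by
    rw [classInner_eq_sum_mul_conj Ψ₀ (IsCharacter.isClassFunction hR)]
    apply Finset.sum_congr rfl
    intro ψ _
    rw [ha ψ, hm ψ, Complex.conj_natCast, Nat.cast_mul]
  have hsumN : ∑ ψ : IrrCharacter P, a ψ * m ψ = 1 := by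
    have : ((∑ ψ : IrrCharacter P, a ψ * m ψ : ℕ) : ℂ) = ((1 : ℕ) : ℂ) := by
      rw [Nat.cast_sum, ← hpars, h1, Nat.cast_one]
    exact_mod_cast this
  obtain ⟨ψ₀, -, hψ₀⟩ : ∃ ψ ∈ (Finset.univ : Finset (IrrCharacter P)), a ψ * m ψ ≠ 0 := by
    by_contra hcon
    have hcon' : ∀ ψ ∈ (Finset.univ : Finset (IrrCharacter P)), a ψ * m ψ = 0 := by
      intro ψ hψ
      by_contra h
      exact hcon ⟨ψ, hψ, h⟩
    rw [Finset.sum_eq_zero hcon'] at hsumN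
    exact absurd hsumN (by norm_num)
  have hle : a ψ₀ * m ψ₀ ≤ 1 := by
    rw [← hsumN]
    exact Finset.single_le_sum (f := fun ψ => a ψ * m ψ) (fun _ _ => Nat.zero_le _)
      (Finset.mem_univ ψ₀)
  have heq : a ψ₀ * m ψ₀ = 1 := le_antisymm hle (Nat.one_le_iff_ne_zero.2 hψ₀)
  have ha1 : a ψ₀ = 1 := Nat.dvd_one.1 (heq ▸ Dvd.intro _ rfl)
  have hm1 : m ψ₀ = 1 := Nat.dvd_one.1 (heq ▸ Dvd.intro_left _ rfl)
  refine ⟨ψ₀.1, ψ₀.2, ?_, ?_, ?_⟩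
  · rw [← classInner_conj_symm, hm ψ₀, hm1]
    simp
  · rw [ha ψ₀, ha1]
    simp
  · have hdecomp : Ψ₀ = ∑ ψ : IrrCharacter P, classInner Ψ₀ (ψ : P → ℂ) • (ψ : P → ℂ) :=
      IsCharacter.eq_sum_irr hΨ₀
    have hsplit : Ψ₀ - ψ₀.1 =
        ∑ ψ ∈ (Finset.univ : Finset (IrrCharacter P)).erase ψ₀, (m ψ : ℂ) • (ψ : P → ℂ) := by
      rw [sub_eq_iff_eq_add]
      conv_lhs => rw [hdecomp]
      rw [← Finset.sum_erase_add _ _ (Finset.mem_univ ψ₀), hm ψ₀, hm1]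
      congr 1
      · apply Finset.sum_congr rfl
        intro ψ _
        rw [hm ψ]
      · simp
    rw [hsplit]
    apply isCharacter_finset_sum
    intro ψ _
    exact IsCharacter.nsmul (IsIrrCharacter.isCharacter ψ.2) _

/-! ### [A-PICK] -/
open Classical in
theorem exists_irr_pick [Fintype G] (P : Subgroup G) (Ψ₀ : ↥P → ℂ) (hΨ₀ : IsCharacter ↥P Ψ₀)
    (χ : G → ℂ) (hχ : IsIrrCharacter G χ) (h1 : classInner χ (indFun P Ψ₀) = 1) :
    ∃ Λ : ↥P → ℂ, IsIrrCharacter ↥P Λ ∧ classInner Λ Ψ₀ = 1 ∧ classInner χ (indFun P Λ) = 1 ∧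
      IsCharacter ↥P (Ψ₀ - Λ) := by
  have hχc : IsCharacter G χ := IsIrrCharacter.isCharacter hχ
  have hχcl : IsClassFunction G χ := IsCharacter.isClassFunction hχc
  have hR : IsCharacter ↥P (fun h : ↥P => χ h) := Cfsg.Agent.Lib.Helper75.isCharacter_res P hχc
  have h1' : classInner (fun h : ↥P => χ h) Ψ₀ = 1 := by
    rw [← Cfsg.Agent.Lib.Helper75.frobenius_reciprocity' P Ψ₀ hχcl]
    exact h1
  obtain ⟨Λ, hΛ, hΛ1, hΛ2, hΛ3⟩ := exists_irr_pick_aux (fun h : ↥P => χ h) Ψ₀ hR hΨ₀ h1'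
  refine ⟨Λ, hΛ, hΛ1, ?_, hΛ3⟩
  rw [Cfsg.Agent.Lib.Helper75.frobenius_reciprocity' P Λ hχcl]
  exact hΛ2

end Cfsg.Agent.Lib.Helper93.StUniq
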