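import Mathlib
import Cfsg.Agent.Lib.Helper82.StUniq.Defs
import Cfsg.Agent.Lib.Helper75.Clifford

/-!
# S2318-[A-REG] (helper93, for helper82's StUniq project)

`classInner_indFun_of_vanish`: if a class function `χ` vanishes on `U \ {1}` then
`⟨χ, Ind_U^G ψ⟩ = χ(1)/|U|` for every linear character `ψ` of `U`.
-/

set_option autoImplicit false

namespace Cfsg.Agent.Lib.Helper93.StUniq

open Cfsg
open scoped ComplexConjugate
open Cfsg.Agent.Lib.Helper79.BrauerN (linFun)

universe u
variable {G : Type u} [Group G]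

/-! ### [A-REG] -/
theorem classInner_indFun_of_vanish [Fintype G] (U : Subgroup G) (χ : G → ℂ)
    (hχ : IsClassFunction G χ) (hv : ∀ u ∈ U, u ≠ 1 → χ u = 0) (ψ : ↥U →* ℂˣ) :
    classInner χ (indFun U (linFun ψ)) = χ 1 / (Nat.card U : ℂ) := by
  classical
  rw [Cfsg.Agent.Lib.Helper75.frobenius_reciprocity' U (linFun ψ) hχ]
  unfold classInner
  have hsum : ∑ g : ↥U, χ (g : G) * conj (linFun ψ g) = χ 1 := by
    rw [Finset.sum_eq_single (1 : ↥U)]
    · simp [linFun]
    · intro b _ hb
      have hb' : (b : G) ≠ 1 := fun h => hb (Subtype.ext h)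
      rw [hv b b.2 hb', zero_mul]
    · intro h
      exact absurd (Finset.mem_univ _) h
  rw [hsum, div_eq_mul_inv, mul_comm]

end Cfsg.Agent.Lib.Helper93.StUniq
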