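import Mathlib
import Cfsg.Agent.Lib.Helper82.StUniq.Defs
import Cfsg.Agent.Lib.Helper75.Clifford

/-!
# S2318-[A-SUMIND] (helper93, for helper82's StUniq project)

`sum_indFun_tilde`: `Σ_θ Ind_B^G θ̃ = Ind_U^G 1` for `B = U ⋊ T`, `T` commutative
(sum over all linear characters `θ` of `T`).

Self-contained: the character-sum lemma for a finite commutative group is proved locally
(`sum_hom_apply_comm`), so that this file does not wait for `[A-CHARSUM]`.
-/

set_option autoImplicit false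

namespace Cfsg.Agent.Lib.Helper93.StUniq

open Cfsg
open scoped ComplexConjugate
open Cfsg.Agent.Lib.Helper79.BrauerN (linFun)
open Cfsg.Agent.Lib.Helper82.StUniq

universe u
variable {G : Type u} [Group G]

/-- character sum over the dual of a finite commutative group (local copy, `CommGroup` form) -/
theorem sum_hom_apply_comm (A : Type*) [CommGroup A] [Finite A] [Fintype (A →* ℂˣ)] (a : A) :
    (a = 1 → ∑ θ : A →* ℂˣ, ((θ a : ℂˣ) : ℂ) = (Nat.card A : ℂ)) ∧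
    (a ≠ 1 → ∑ θ : A →* ℂˣ, ((θ a : ℂˣ) : ℂ) = 0) := by
  have hne : NeZero (Monoid.exponent A) := ⟨Monoid.exponent_ne_zero_of_finite⟩
  have hne' : NeZero ((Monoid.exponent A : ℕ) : ℂ) := NeZero.charZero
  have hroots : HasEnoughRootsOfUnity ℂ (Monoid.exponent A) := inferInstance
  constructor
  · rintro rfl
    simp only [map_one, Units.val_one, Finset.sum_const, Finset.card_univ, nsmul_eq_mul, mul_one]
    rw [← Nat.card_eq_fintype_card, CommGroup.card_monoidHom_of_hasEnoughRootsOfUnity A ℂ]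
  · intro ha
    obtain ⟨φ, hφ⟩ := CommGroup.exists_apply_ne_one_of_hasEnoughRootsOfUnity A ℂ ha
    have h1 : ∑ θ : A →* ℂˣ, ((θ a : ℂˣ) : ℂ) =
        ((φ a : ℂˣ) : ℂ) * ∑ θ : A →* ℂˣ, ((θ a : ℂˣ) : ℂ) := by
      rw [Finset.mul_sum]
      symm
      apply Fintype.sum_equiv (Equiv.mulLeft φ)
      intro θ
      simp [MonoidHom.mul_apply]
    have h2 : (1 - ((φ a : ℂˣ) : ℂ)) * ∑ θ : A →* ℂˣ, ((θ a : ℂˣ) : ℂ) = 0 := by
      rw [sub_mul, one_mul, ← h1, sub_self]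
    rcases mul_eq_zero.1 h2 with h | h
    · exfalso
      apply hφ
      have : ((φ a : ℂˣ) : ℂ) = 1 := (sub_eq_zero.1 h).symm
      exact Units.ext this
    · exact h

/-- the character sum for the torus `T` of a `BorelData` -/
theorem sum_hom_apply_T [Finite G] (S : BorelData G) [Fintype (↥S.T →* ℂˣ)] (a : ↥S.T) :
    (a = 1 → ∑ θ : ↥S.T →* ℂˣ, ((θ a : ℂˣ) : ℂ) = (Nat.card ↥S.T : ℂ)) ∧
    (a ≠ 1 → ∑ θ : ↥S.T →* ℂˣ, ((θ a : ℂˣ) : ℂ) = 0) := by
  let _inst : CommGroup ↥S.T :=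
    { (inferInstance : Group ↥S.T) with
      mul_comm := fun x y => Subtype.ext (S.hcomm x x.2 y y.2) }
  exact sum_hom_apply_comm ↥S.T a

/-- `|B| = |U| |T|` -/
theorem card_B_eq [Finite G] (S : BorelData G) :
    Nat.card ↥S.B = Nat.card ↥S.U * Nat.card ↥S.T := by
  rw [← Nat.card_prod]
  symm
  let f : ↥S.U × ↥S.T → ↥S.B := fun p =>
    ⟨(p.1 : G) * (p.2 : G), S.B.mul_mem (S.hUB p.1.2) (S.hTB p.2.2)⟩
  apply Nat.card_eq_of_bijective f
  constructor
  · rintro ⟨u, t⟩ ⟨u', t'⟩ h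
    have h' : (u : G) * (t : G) = (u' : G) * (t' : G) := congrArg Subtype.val h
    have ht : (t : G) = (t' : G) := S.eq_of_mul_eq u.2 u'.2 t.2 t'.2 h'
    have hu : (u : G) = (u' : G) := by
      rw [ht] at h'
      exact mul_right_cancel h'
    exact Prod.ext (Subtype.ext hu) (Subtype.ext ht)
  · intro b
    obtain ⟨u, hu, t, ht, h⟩ := S.hmul b b.2
    exact ⟨(⟨u, hu⟩, ⟨t, ht⟩), Subtype.ext h.symm⟩

/-- pointwise form of [A-SUMIND] on extensions by zero -/
theorem sum_extendByZero_tilde [Finite G] (S : BorelData G) [Fintype (↥S.T →* ℂˣ)] (y : G) :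
    ∑ θ : ↥S.T →* ℂˣ, extendByZero S.B (linFun (S.tilde θ)) y =
      (Nat.card ↥S.T : ℂ) * extendByZero S.U (fun _ => (1 : ℂ)) y := by
  by_cases hyB : y ∈ S.B
  · have h1 : ∀ θ : ↥S.T →* ℂˣ, extendByZero S.B (linFun (S.tilde θ)) y =
        ((θ (S.proj ⟨y, hyB⟩) : ℂˣ) : ℂ) := by
      intro θ
      rw [Cfsg.Agent.Lib.Helper75.extendByZero_of_mem S.B _ hyB]
      rfl
    rw [Finset.sum_congr rfl (fun θ _ => h1 θ)]
    by_cases hyU : y ∈ S.U
    · rw [Cfsg.Agent.Lib.Helper75.extendByZero_of_mem S.U _ hyU, mul_one]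
      exact (sum_hom_apply_T S _).1 (S.proj_of_mem_U hyU)
    · rw [Cfsg.Agent.Lib.Helper75.extendByZero_of_not_mem S.U _ hyU, mul_zero]
      apply (sum_hom_apply_T S _).2
      intro h
      exact hyU (S.mem_U_of_proj_eq_one h)
  · have hyU : y ∉ S.U := fun h => hyB (S.hUB h)
    rw [Cfsg.Agent.Lib.Helper75.extendByZero_of_not_mem S.U _ hyU, mul_zero]
    apply Finset.sum_eq_zero
    intro θ _
    exact Cfsg.Agent.Lib.Helper75.extendByZero_of_not_mem S.B _ hyB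

/-! ### [A-SUMIND] -/
theorem sum_indFun_tilde [Fintype G] (S : BorelData G) [Fintype (↥S.T →* ℂˣ)] :
    ∑ θ : ↥S.T →* ℂˣ, indFun S.B (linFun (S.tilde θ)) = indFun S.U (fun _ => (1 : ℂ)) := by
  funext g
  rw [Finset.sum_apply]
  unfold indFun
  rw [← Finset.mul_sum, Finset.sum_comm]
  rw [Finset.sum_congr rfl (fun x _ => sum_extendByZero_tilde S (x⁻¹ * g * x))]
  rw [← Finset.mul_sum, ← mul_assoc]
  congr 1
  have hU : (Nat.card ↥S.U : ℂ) ≠ 0 := by
    have : Nat.card ↥S.U ≠ 0 := Nat.card_pos.ne'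
    exact_mod_cast this
  have hT : (Nat.card ↥S.T : ℂ) ≠ 0 := by
    have : Nat.card ↥S.T ≠ 0 := Nat.card_pos.ne'
    exact_mod_cast this
  rw [card_B_eq S, Nat.cast_mul]
  field_simp

end Cfsg.Agent.Lib.Helper93.StUniq
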